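import Groth.Agent.Lib.CritMod6.BaseChange
import Groth.Agent.Lib.FittSheaf.PullbackFP

/-!
# Consequences of the fibre criterion for modules
-/

set_option autoImplicit false
set_option backward.isDefEq.respectTransparency false
set_option linter.all false
set_option maxHeartbeats 1000000

universe u

open AlgebraicGeometry CategoryTheory Limits IsLocalRing

namespace GrothLib.CritMod6

variable {X Y S : Scheme.{u}}

theorem moduleStalkOver_id (F : X.Modules) (x : X) :
    FlatMod.moduleStalkOver (𝟙 X) F x =
      (inferInstance : Module (X.presheaf.stalk x) (F.presheaf.stalk x)) := by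
  refine Module.ext' _ _ fun c m => ?_
  change @HSMul.hSMul (X.presheaf.stalk x) (F.presheaf.stalk x) (F.presheaf.stalk x) _
    (((𝟙 X : X ⟶ X).stalkMap x).hom c) m = _
  rw [Scheme.Hom.stalkMap_id]
  rfl

/-- For finitely presented modules, flatness of the stalk is freeness. -/
theorem isFlatOverAt_id_iff_free (F : X.Modules) [F.IsQuasicoherent] (hF : CohB1.IsFP F) (x : X) :
    FlatMod.IsFlatOverAt (𝟙 X) F x ↔
      Module.Free (X.presheaf.stalk x) (F.presheaf.stalk x) := by
  unfold FlatMod.IsFlatOverAt
  rw [moduleStalkOver_id]
  haveI := finitePresentation_stalk F hF x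
  constructor
  · intro h
    haveI : Module.Flat (X.presheaf.stalk x) (F.presheaf.stalk x) := h
    exact Module.free_of_flat_of_isLocalRing
  · intro h
    haveI : Module.Free (X.presheaf.stalk x) (F.presheaf.stalk x) := h
    exact (inferInstance : Module.Flat (X.presheaf.stalk x) (F.presheaf.stalk x))

end GrothLib.CritMod6
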