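import Mathlib.RingTheory.Flat.Stability
import Mathlib.RingTheory.Flat.FaithfullyFlat.Basic
import Mathlib.LinearAlgebra.TensorProduct.Quotient
import Mathlib.RingTheory.Ideal.Quotient.Operations
import Mathlib.Algebra.Module.Torsion.Basic

/-!
# Flatness on closed fibres, transported along quotient maps
-/

universe u

open TensorProduct

namespace GrothLib.CritMod6

/-- Flatness is invariant under a semilinear equivalence. -/
theorem flat_of_semilinear {A A' M N : Type u} [CommRing A] [CommRing A'] [AddCommGroup M]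
    [Module A M] [AddCommGroup N] [Module A' N] (e : A ≃+* A') (L : M ≃+ N)
    (hL : ∀ a m, L (a • m) = e a • L m) (h : Module.Flat A M) : Module.Flat A' N := by
  letI : Algebra A A' := e.toRingHom.toAlgebra
  letI : Algebra A' A := e.symm.toRingHom.toAlgebra
  letI : Module A' M := Module.compHom M e.symm.toRingHom
  haveI : IsScalarTower A' A M := IsScalarTower.of_algebraMap_smul fun _ _ => rfl
  haveI : Module.Flat A' A := Module.Flat.of_linearEquiv
    (LinearEquiv.ofBijective (Algebra.linearMap A' A) e.symm.bijective).symm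
  haveI : Module.Flat A' M := Module.Flat.trans A' A M
  exact Module.Flat.of_linearEquiv
    (AddEquiv.toLinearEquiv L fun a m => by
      show L (e.symm a • m) = a • L m
      rw [hL, e.apply_symm_apply]).symm

theorem flat_iff_of_semilinear {A A' M N : Type u} [CommRing A] [CommRing A'] [AddCommGroup M]
    [Module A M] [AddCommGroup N] [Module A' N] (e : A ≃+* A') (L : M ≃+ N)
    (hL : ∀ a m, L (a • m) = e a • L m) : Module.Flat A M ↔ Module.Flat A' N :=
  ⟨flat_of_semilinear e L hL, flat_of_semilinear e.symm L.symm fun a n => by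
    apply L.injective
    rw [hL, e.apply_symm_apply, L.apply_symm_apply, L.apply_symm_apply]⟩

/-- The fibre module over the fibre ring, presented by surjections. -/
theorem flat_quot_iff {A B A' B' M : Type u} [CommRing A] [CommRing B] [CommRing A'] [CommRing B']
    [Algebra A B] [Algebra A' B'] [Algebra B B'] [AddCommGroup M] [Module B M] [Module A M]
    [IsScalarTower A B M] (J : Ideal A) (ψ : A →+* A') (hψ : Function.Surjective ψ)
    (hkA : RingHom.ker ψ = J) (hB : Function.Surjective (algebraMap B B'))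
    (hkB : RingHom.ker (algebraMap B B') = J.map (algebraMap A B))
    (hcomm : ∀ a, algebraMap A' B' (ψ a) = algebraMap B B' (algebraMap A B a))
    (N : Type u) [AddCommGroup N] [Module B' N] [Module A' N] [IsScalarTower A' B' N]
    (eN : N ≃ₗ[B'] B' ⊗[B] M) :
    Module.Flat A' N ↔ Module.Flat (A ⧸ J) (M ⧸ J • (⊤ : Submodule A M)) := by
  let eA : (A ⧸ J) ≃+* A' :=
    (Ideal.quotEquivOfEq hkA.symm).trans (RingHom.quotientKerEquivOfSurjective hψ)
  let φ : B ⧸ J.map (algebraMap A B) →ₐ[B] B' :=
    Ideal.Quotient.liftₐ _ (Algebra.ofId B B') fun b hb => by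
      rw [← hkB, RingHom.mem_ker] at hb; exact hb
  have hφ : Function.Bijective φ := by
    refine ⟨(injective_iff_map_eq_zero φ).mpr fun b hb => ?_, fun b => ?_⟩
    · obtain ⟨b, rfl⟩ := Ideal.Quotient.mk_surjective b
      rw [Ideal.Quotient.eq_zero_iff_mem, ← hkB]
      exact hb
    · obtain ⟨b, rfl⟩ := hB b
      exact ⟨Ideal.Quotient.mk _ b, rfl⟩
  let eT : (B' ⊗[B] M) ≃ₗ[B] M ⧸ J.map (algebraMap A B) • (⊤ : Submodule B M) :=
    TensorProduct.congr (AlgEquiv.ofBijective φ hφ).toLinearEquiv.symm (LinearEquiv.refl B M) ≪≫ₗ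
      quotTensorEquivQuotSMul M _
  have hJ : (J.map (algebraMap A B) • (⊤ : Submodule B M)).restrictScalars A = J • ⊤ :=
    (Ideal.smul_restrictScalars J ⊤).trans rfl
  let eQ : (M ⧸ J.map (algebraMap A B) • (⊤ : Submodule B M)) ≃+ (M ⧸ J • (⊤ : Submodule A M)) :=
    QuotientAddGroup.quotientAddEquivOfEq (congrArg Submodule.toAddSubgroup hJ)
  let L : N ≃+ (M ⧸ J • (⊤ : Submodule A M)) := (eN.toAddEquiv.trans eT.toAddEquiv).trans eQ
  refine (flat_iff_of_semilinear eA L.symm fun a m => ?_).symm
  obtain ⟨n, rfl⟩ := L.surjective m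
  obtain ⟨a, rfl⟩ := Ideal.Quotient.mk_surjective a
  apply L.injective
  rw [L.apply_symm_apply, L.symm_apply_apply]
  show _ = eQ (eT (eN (ψ a • n)))
  rw [← algebraMap_smul B' (ψ a) n, hcomm, map_smul, algebraMap_smul, map_smul]
  show _ = eQ (algebraMap A B a • eT (eN n))
  show Ideal.Quotient.mk J a • eQ (eT (eN n)) = _
  obtain ⟨y, hy⟩ := Submodule.Quotient.mk_surjective _ (eT (eN n))
  rw [← hy]
  show Submodule.Quotient.mk (a • y) = Submodule.Quotient.mk (algebraMap A B a • y)
  rw [algebraMap_smul]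

end GrothLib.CritMod6
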