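import Groth.Agent.Lib.CritMod6.Basic
import Groth.Agent.Lib.FlatFP.InjCokerSheaf
import Mathlib.AlgebraicGeometry.Morphisms.Flat

/-!
# The relative flat locus and base change
-/

set_option autoImplicit false
set_option backward.isDefEq.respectTransparency false
set_option linter.all false
set_option maxHeartbeats 1000000

universe u

open AlgebraicGeometry CategoryTheory Limits IsLocalRing

namespace GrothLib.CritMod6

variable {X Y S : Scheme.{u}}

/-- The map of fibres is the base change of the map. -/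
theorem isPullback_fiberMap (f : X ⟶ Y) (g : Y ⟶ S) (s : S) :
    IsPullback ((f ≫ g).fiberι s) (MoreMor.fiberMap f g s) f (g.fiberι s) := by
  have hsnd : MoreMor.fiberMap f g s ≫ g.fiberToSpecResidueField s =
      (f ≫ g).fiberToSpecResidueField s := pullback.lift_snd ..
  refine IsPullback.of_bot ?_ (pullback.lift_fst ..).symm
    (IsPullback.of_hasPullback g (S.fromSpecResidueField s))
  show IsPullback ((f ≫ g).fiberι s) (MoreMor.fiberMap f g s ≫ g.fiberToSpecResidueField s)
    (f ≫ g) (S.fromSpecResidueField s)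
  rw [hsnd]
  exact IsPullback.of_hasPullback _ _

theorem flat_SpecMap_residueFieldMap {S' : Scheme.{u}} (h : S' ⟶ S) (s' : S') :
    Flat (Spec.map (h.residueFieldMap s')) := by
  rw [HasRingHomProperty.Spec_iff (P := @Flat)]
  letI := (h.residueFieldMap s').hom.toAlgebra
  show Module.Flat (S.residueField (h s')) (S'.residueField s')
  infer_instance

theorem isFlatOverAt_baseChange_iff (f : X ⟶ Y) (g : Y ⟶ S) [LocallyOfFinitePresentation (f ≫ g)]
    [LocallyOfFiniteType g] (F : X.Modules) [F.IsQuasicoherent] (hF : CohB1.IsFP F)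
    {X' Y' S' : Scheme.{u}} (h : S' ⟶ S) (gY : Y' ⟶ Y) (g' : Y' ⟶ S') (hY : IsPullback gY g' g h)
    (gX : X' ⟶ X) (f' : X' ⟶ Y') (hX : IsPullback gX (f' ≫ g') (f ≫ g) h) (w : gX ≫ f = f' ≫ gY)
    (x' : X') (hfl : FlatMod.IsFlatOverAt (f ≫ g) F (gX x')) :
    FlatMod.IsFlatOverAt f' ((Scheme.Modules.pullback gX).obj F) x' ↔
      FlatMod.IsFlatOverAt f F (gX x') := by
  have hsq : IsPullback gX f' f gY := IsPullback.of_bot hX w hY
  refine ⟨fun hflat => ?_, fun h' => GrothLib.FlatFP.isFlatOverAt_baseChange f f' gX gY hsq F x' h'⟩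
  set s' := (f' ≫ g') x'
  obtain ⟨z', hz'⟩ : ∃ z', (f' ≫ g').fiberι s' z' = x' := ⟨_, (f' ≫ g').fiberι_asFiber x'⟩
  have h2 : FlatMod.IsFlatOverAt (MoreMor.fiberMap f' g' s')
      ((Scheme.Modules.pullback ((f' ≫ g').fiberι s')).obj ((Scheme.Modules.pullback gX).obj F)) z' :=
    (fibreFlatAt_iff f' g' _ x' s' z' hz').mpr (fibreFlatAt_of_isFlatOverAt f' g' _ x' hflat)
  -- the map of fibres over the field extension
  let k := Spec.map (h.residueFieldMap s')
  haveI : Flat k := flat_SpecMap_residueFieldMap h s'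
  have hsY : IsPullback (g'.fiberι s' ≫ gY) (g'.fiberToSpecResidueField s') g
      (k ≫ S.fromSpecResidueField (h s')) := by
    rw [Scheme.Hom.SpecMap_residueFieldMap_fromSpecResidueField]
    exact (IsPullback.of_hasPullback g' (S'.fromSpecResidueField s')).paste_horiz hY
  let b : g'.fiber s' ⟶ g.fiber (h s') := pullback.lift (g'.fiberι s' ≫ gY)
    (g'.fiberToSpecResidueField s' ≫ k) (by rw [hsY.w, Category.assoc])
  have hbf : b ≫ g.fiberι (h s') = g'.fiberι s' ≫ gY := pullback.lift_fst ..
  have hbs : b ≫ g.fiberToSpecResidueField (h s') = g'.fiberToSpecResidueField s' ≫ k :=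
    pullback.lift_snd ..
  have hbpb : IsPullback b (g'.fiberToSpecResidueField s') (g.fiberToSpecResidueField (h s')) k := by
    refine IsPullback.of_right ?_ hbs (IsPullback.of_hasPullback g (S.fromSpecResidueField (h s')))
    show IsPullback (b ≫ g.fiberι (h s')) _ g _
    rw [hbf]
    exact hsY
  haveI : Flat b := MorphismProperty.of_isPullback hbpb.flip (inferInstanceAs (Flat k))
  have hr := isPullback_fiberMap f g (h s')
  let a : (f' ≫ g').fiber s' ⟶ (f ≫ g).fiber (h s') :=
    hr.lift ((f' ≫ g').fiberι s' ≫ gX) (MoreMor.fiberMap f' g' s' ≫ b) (by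
      rw [Category.assoc, w, Category.assoc, hbf, reassoc_of% (isPullback_fiberMap f' g' s').w])
  have ha : a ≫ (f ≫ g).fiberι (h s') = (f' ≫ g').fiberι s' ≫ gX := hr.lift_fst ..
  have hapb : IsPullback a (MoreMor.fiberMap f' g' s') (MoreMor.fiberMap f g (h s')) b := by
    refine IsPullback.of_right ?_ (hr.lift_snd ..) hr
    rw [ha, hbf]
    exact (isPullback_fiberMap f' g' s').paste_horiz hsq
  -- descend
  let e : (Scheme.Modules.pullback ((f' ≫ g').fiberι s')).obj ((Scheme.Modules.pullback gX).obj F) ≅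
      (Scheme.Modules.pullback a).obj ((Scheme.Modules.pullback ((f ≫ g).fiberι (h s'))).obj F) :=
    (Scheme.Modules.pullbackComp _ _).app F ≪≫ eqToIso (by rw [← ha]) ≪≫
      ((Scheme.Modules.pullbackComp _ _).app F).symm
  have h3 := GrothLib.FunFlat6.isFlatOverAt_descend hapb
    ((Scheme.Modules.pullback ((f ≫ g).fiberι (h s'))).obj F) z'
    (Flat.stalkMap b _) ((GrothLib.FlatFP.isFlatOverAt_congr _ e z').mp h2)
  have hz : (f ≫ g).fiberι (h s') (a z') = gX x' := by
    rw [← Scheme.Hom.comp_apply, ha, Scheme.Hom.comp_apply, hz']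
  exact isFlatOverAt_of_fibre f g F (gX x') hF hfl
    ((fibreFlatAt_iff f g F (gX x') (h s') (a z') hz).mp h3)

end GrothLib.CritMod6
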