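import Groth.Agent.Lib.CritMod6.Alg
import Groth.Agent.Lib.FibreFlat.FibreMap
import Groth.Agent.Lib.FlatFP.Sheaf
import Groth.Agent.Lib.OX.PullbackStalk
import Groth.Agent.Lib.FunFlat6.Point
import Groth.Prelude.Def_FlatMod2
import Groth.Prelude.Def_CohB1

/-!
# The fibre criterion of flatness for modules
-/

set_option autoImplicit false
set_option backward.isDefEq.respectTransparency false
set_option maxHeartbeats 1000000
set_option linter.all false

universe u

open AlgebraicGeometry CategoryTheory Limits IsLocalRing TensorProduct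

namespace GrothLib.CritMod6

variable {X Y S : Scheme.{u}}

/-- The stalk of a finitely presented module is finitely presented. -/
theorem finitePresentation_stalk (F : X.Modules) [F.IsQuasicoherent] (hF : CohB1.IsFP F) (x : X) :
    Module.FinitePresentation (X.presheaf.stalk x) (F.presheaf.stalk x) := by
  obtain ⟨U, hU, hxU, -⟩ :=
    exists_isAffineOpen_mem_and_subset (show x ∈ (⊤ : X.Opens) from trivial)
  letI := X.presheaf.algebra_section_stalk ⟨x, hxU⟩
  haveI := GrothLib.FlatFP.isLocalization_stalk_primeAt hU hxU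
  letI : Module Γ(X, U) (F.presheaf.stalk x) := Module.compHom _ (X.presheaf.germ U x hxU).hom
  haveI : IsScalarTower Γ(X, U) (X.presheaf.stalk x) (F.presheaf.stalk x) :=
    IsScalarTower.of_algebraMap_smul fun _ _ => rfl
  haveI := GrothLib.FlatFP.finitePresentation_sections F hF hU
  obtain ⟨g₀, hg₀, -⟩ := GrothLib.FlatFP.isLocalizedModule_germ F hU hxU
  exact _root_.FinitePresentation.of_isBaseChange g₀
    ((isLocalizedModule_iff_isBaseChange (GrothLib.WeakAss.primeAt x hxU).primeCompl
      (X.presheaf.stalk x) g₀).mp hg₀)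

/-- The hypothesis on the closed fibre, in module form. -/
def FibreFlatAt (f : X ⟶ Y) (g : Y ⟶ S) (F : X.Modules) (x : X) : Prop :=
  letI := FlatMod.moduleStalkOver f F x
  Module.Flat (↑(Y.presheaf.stalk (f x)) ⧸
      Ideal.map (g.stalkMap (f x)).hom (maximalIdeal ↑(S.presheaf.stalk (g (f x)))))
    (↑(F.presheaf.stalk x) ⧸ (Ideal.map (g.stalkMap (f x)).hom (maximalIdeal ↑(S.presheaf.stalk (g (f x)))) •
      (⊤ : Submodule ↑(Y.presheaf.stalk (f x)) ↑(F.presheaf.stalk x))))

section Pointwise

variable (f : X ⟶ Y) (g : Y ⟶ S) (F : X.Modules) [F.IsQuasicoherent] (x : X)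

/-- Flat over the base and fibrewise flat implies flat. -/
theorem isFlatOverAt_of_fibre [LocallyOfFinitePresentation (f ≫ g)] [LocallyOfFiniteType g]
    (hF : CohB1.IsFP F) (h1 : FlatMod.IsFlatOverAt (f ≫ g) F x) (h2 : FibreFlatAt f g F x) :
    FlatMod.IsFlatOverAt f F x := by
  let R := S.presheaf.stalk (g (f x))
  let A := Y.presheaf.stalk (f x)
  let B := X.presheaf.stalk x
  let M := F.presheaf.stalk x
  letI : Algebra R A := (g.stalkMap (f x)).hom.toAlgebra
  letI : Algebra A B := (f.stalkMap x).hom.toAlgebra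
  letI : Algebra R B := ((f ≫ g).stalkMap x).hom.toAlgebra
  haveI : IsScalarTower R A B := IsScalarTower.of_algebraMap_eq fun r => by
    show ((f ≫ g).stalkMap x).hom r = (f.stalkMap x).hom ((g.stalkMap (f x)).hom r)
    rw [Scheme.Hom.stalkMap_comp]
    rfl
  haveI : IsLocalHom (algebraMap R B) := inferInstanceAs (IsLocalHom ((f ≫ g).stalkMap x).hom)
  letI : Module A M := FlatMod.moduleStalkOver f F x
  letI : Module R M := FlatMod.moduleStalkOver (f ≫ g) F x
  haveI : IsScalarTower A B M := IsScalarTower.of_algebraMap_smul fun _ _ => rfl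
  haveI : IsScalarTower R B M := IsScalarTower.of_algebraMap_smul fun _ _ => rfl
  haveI : IsScalarTower R A M := IsScalarTower.of_algebraMap_smul fun r m => by
    show (f.stalkMap x).hom ((g.stalkMap (f x)).hom r) • m = ((f ≫ g).stalkMap x).hom r • m
    rw [Scheme.Hom.stalkMap_comp]; rfl
  haveI : Module.Flat R M := h1
  haveI := finitePresentation_stalk F hF x
  obtain ⟨n, φ, hφ⟩ := GrothLib.FibreFlat.exists_generators_stalkMap g (f x)
  exact GrothLib.FibreFlat.flat_of_fibre_localized (R := R) (S := A) (S' := B) (M := M)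
    (GrothLib.FibreFlat.isEssFinitePresentation_stalkMap (f ≫ g) x) φ hφ h2

/-- The base is flat when a nonzero flat module on it is flat over the source. -/
theorem flat_stalkMap_of_isFlatOverAt (hF : CohB1.IsFP F) (hx : Nontrivial ↑(F.presheaf.stalk x))
    (h1 : FlatMod.IsFlatOverAt (f ≫ g) F x) (h2 : FlatMod.IsFlatOverAt f F x) :
    (g.stalkMap (f x)).hom.Flat := by
  let R := S.presheaf.stalk (g (f x))
  let A := Y.presheaf.stalk (f x)
  let B := X.presheaf.stalk x
  let M := F.presheaf.stalk x
  letI : Algebra R A := (g.stalkMap (f x)).hom.toAlgebra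
  letI : Algebra A B := (f.stalkMap x).hom.toAlgebra
  haveI : IsLocalHom (algebraMap A B) := inferInstanceAs (IsLocalHom (f.stalkMap x).hom)
  letI : Module A M := FlatMod.moduleStalkOver f F x
  letI : Module R M := FlatMod.moduleStalkOver (f ≫ g) F x
  haveI : IsScalarTower A B M := IsScalarTower.of_algebraMap_smul fun _ _ => rfl
  haveI : IsScalarTower R A M := IsScalarTower.of_algebraMap_smul fun r m => by
    show (f.stalkMap x).hom ((g.stalkMap (f x)).hom r) • m = ((f ≫ g).stalkMap x).hom r • m
    rw [Scheme.Hom.stalkMap_comp]; rfl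
  haveI : Module.Flat R M := h1
  haveI : Module.Flat A M := h2
  haveI := finitePresentation_stalk F hF x
  haveI : Module.FaithfullyFlat A M :=
    GrothLib.Flatness.faithfullyFlat_of_finite (R := A) (S := B) (M := M)
  exact GrothLib.Flatness.flat_of_faithfullyFlat (R := R) (S := A) (M := M)

omit [F.IsQuasicoherent] in
/-- Flatness over `Y` gives flatness on the fibre. -/
theorem fibreFlatAt_of_isFlatOverAt (h : FlatMod.IsFlatOverAt f F x) : FibreFlatAt f g F x := by
  let A := Y.presheaf.stalk (f x)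
  let M := F.presheaf.stalk x
  letI : Module A M := FlatMod.moduleStalkOver f F x
  let J : Ideal A := Ideal.map (g.stalkMap (f x)).hom (maximalIdeal ↑(S.presheaf.stalk (g (f x))))
  haveI : Module.Flat A M := h
  show Module.Flat (A ⧸ J) (M ⧸ J • (⊤ : Submodule A M))
  let e := quotTensorEquivQuotSMul M J
  refine Module.Flat.of_linearEquiv (M := (A ⧸ J) ⊗[A] M)
    (AddEquiv.toLinearEquiv e.toAddEquiv fun a y => ?_).symm
  obtain ⟨a, rfl⟩ := Ideal.Quotient.mk_surjective a
  show e (Ideal.Quotient.mk J a • y) = Ideal.Quotient.mk J a • e y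
  rw [show Ideal.Quotient.mk J a • y = a • y from algebraMap_smul (A ⧸ J) a y, map_smul]
  obtain ⟨m, hm⟩ := Submodule.Quotient.mk_surjective _ (e y)
  rw [← hm]
  rfl

omit [F.IsQuasicoherent] in
/-- Flatness on the fibre, as flatness of the restriction to the fibre. -/
theorem fibreFlatAt_iff (s : S) (z : (f ≫ g).fiber s) (hx : (f ≫ g).fiberι s z = x) :
    FlatMod.IsFlatOverAt (MoreMor.fiberMap f g s)
        ((Scheme.Modules.pullback ((f ≫ g).fiberι s)).obj F) z ↔ FibreFlatAt f g F x := by
  subst hx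
  set ι := (f ≫ g).fiberι s
  set fm := MoreMor.fiberMap f g s
  have hfac : fm ≫ g.fiberι s = ι ≫ f := pullback.lift_fst ..
  have hy : g.fiberι s (fm z) = f (ι z) := by
    rw [← Scheme.Hom.comp_apply, hfac, Scheme.Hom.comp_apply]
  obtain ⟨hF1, hF2⟩ := GrothLib.FibreFlat.fiberι_stalkMap (f ≫ g) s z
  obtain ⟨hG1, hG2⟩ := GrothLib.FibreFlat.fiberι_stalkMap' g s (fm z) (f (ι z)) hy
  set πG := (Y.presheaf.stalkCongr (.of_eq hy.symm)).hom ≫ (g.fiberι s).stalkMap (fm z) with hπG
  have hsq : πG ≫ fm.stalkMap z = f.stalkMap (ι z) ≫ ι.stalkMap z := by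
    rw [hπG, Category.assoc, ← Scheme.Hom.stalkMap_comp,
      Scheme.Hom.stalkMap_congr_hom _ _ hfac z, Scheme.Hom.stalkMap_comp, ← Category.assoc]
    simp
  let A := Y.presheaf.stalk (f (ι z))
  let B := X.presheaf.stalk (ι z)
  let A' := (g.fiber s).presheaf.stalk (fm z)
  let B' := ((f ≫ g).fiber s).presheaf.stalk z
  let M := F.presheaf.stalk (ι z)
  let N := ((Scheme.Modules.pullback ι).obj F).presheaf.stalk z
  letI : Algebra A B := (f.stalkMap (ι z)).hom.toAlgebra
  letI : Algebra B B' := (ι.stalkMap z).hom.toAlgebra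
  letI : Algebra A' B' := (fm.stalkMap z).hom.toAlgebra
  letI : Module A M := FlatMod.moduleStalkOver f F (ι z)
  haveI : IsScalarTower A B M := IsScalarTower.of_algebraMap_smul fun _ _ => rfl
  letI : Module A' N := FlatMod.moduleStalkOver fm ((Scheme.Modules.pullback ι).obj F) z
  haveI : IsScalarTower A' B' N := IsScalarTower.of_algebraMap_smul fun _ _ => rfl
  show Module.Flat A' N ↔ _
  refine flat_quot_iff (A := A) (B := B) (A' := A') (B' := B') (M := M) _ πG.hom hG1 hG2 hF1 ?_
    (fun a => congrArg (fun k => k.hom a) hsq) N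
    ((QCoh.stalkPullbackIso ι z).app F).toLinearEquiv
  rw [show RingHom.ker (algebraMap B B') = RingHom.ker (ι.stalkMap z).hom from rfl, hF2,
    Scheme.Hom.stalkMap_comp, CommRingCat.hom_comp, ← Ideal.map_map]
  rfl

end Pointwise

end GrothLib.CritMod6
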